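import Mathlib

open CategoryTheory Limits AlgebraicGeometry

namespace Groth.Agent.H5.GrpAct

universe u

section Cofan

variable {σ : Type u} {X : σ → Scheme.{u}} (c : Cofan X) (hc : IsColimit c)

/-- comparison iso from the chosen coproduct. -/
noncomputable def sigmaIso : (∐ X) ≅ c.pt :=
  IsColimit.coconePointUniqueUpToIso (colimit.isColimit _) hc

include hc in
@[reassoc]
lemma ι_sigmaIso_hom (i : σ) : Limits.Sigma.ι X i ≫ (sigmaIso c hc).hom = c.inj i :=
  IsColimit.comp_coconePointUniqueUpToIso_hom (colimit.isColimit _) hc ⟨i⟩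

include hc in
lemma isOpenImmersion_inj (i : σ) : IsOpenImmersion (c.inj i) := by
  rw [← ι_sigmaIso_hom c hc i]
  infer_instance

include hc in
lemma exists_inj_eq (x : c.pt) : ∃ i y, c.inj i y = x := by
  obtain ⟨⟨i, y⟩, hy⟩ := (sigmaMk X).surjective ((sigmaIso c hc).inv x)
  refine ⟨i, y, ?_⟩
  rw [sigmaMk_mk] at hy
  rw [← ι_sigmaIso_hom c hc i, Scheme.Hom.comp_apply, hy, ← Scheme.Hom.comp_apply]
  simp

include hc in
lemma inj_eq_inj_iff (i j : σ) (x : X i) (y : X j) :
    c.inj i x = c.inj j y → i = j := by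
  rw [← ι_sigmaIso_hom c hc i, ← ι_sigmaIso_hom c hc j]
  intro h
  have h2 : Limits.Sigma.ι X i x = Limits.Sigma.ι X j y := by
    have h3 := congrArg (sigmaIso c hc).inv h
    rw [← Scheme.Hom.comp_apply, ← Scheme.Hom.comp_apply, Category.assoc, Category.assoc,
      Iso.hom_inv_id, Category.comp_id, Category.comp_id] at h3
    exact h3
  have := (sigmaι_eq_iff X i j x y).mp h2
  exact congrArg Sigma.fst this

end Cofan

end Groth.Agent.H5.GrpAct
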