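import Mathlib
import Groth.Agent.Lib.Helper5.GrpAct.A

open CategoryTheory Limits AlgebraicGeometry

namespace Groth.Agent.H5.GrpAct

universe u

/-- Morphisms of schemes agreeing locally are equal. -/
lemma hom_ext_of_locally {X Y : Scheme.{u}} (f g : X ⟶ Y)
    (h : ∀ x : X, ∃ W : X.Opens, x ∈ W ∧ W.ι ≫ f = W.ι ≫ g) : f = g := by
  choose W hxW hW using h
  have hcov : ⨆ x, W x = ⊤ := by
    rw [eq_top_iff]
    intro x _
    exact TopologicalSpace.Opens.mem_iSup.mpr ⟨x, hxW x⟩
  refine (X.openCoverOfIsOpenCover W ?_).hom_ext _ _ fun x => ?_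
  · exact TopologicalSpace.IsOpenCover.mk hcov
  · exact hW x

/-- A field extension gives an epimorphism on spectra. -/
lemma epi_SpecMap_field {K L : Type u} [Field K] [Field L] (φ : K →+* L) :
    Epi (Spec.map (CommRingCat.ofHom φ)) := by
  haveI : Flat (Spec.map (CommRingCat.ofHom φ)) := by
    rw [Flat.SpecMap_iff]
    algebraize [φ]
    change φ.Flat
    rw [← RingHom.algebraMap_toAlgebra φ, RingHom.flat_algebraMap_iff]
    infer_instance
  haveI : Surjective (Spec.map (CommRingCat.ofHom φ)) := by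
    constructor
    intro x
    have y : PrimeSpectrum L := default
    haveI : Subsingleton (Spec (CommRingCat.of K)) :=
      inferInstanceAs (Subsingleton (PrimeSpectrum K))
    exact ⟨y, Subsingleton.elim _ _⟩
  exact Flat.epi_of_flat_of_surjective _

section Free

variable {S : Scheme.{u}} {U : Over S} {G : Type u} [Group G] (ρ : G →* Aut U)

lemma rho_mul_hom (g h : G) : (ρ (g * h)).hom = (ρ h).hom ≫ (ρ g).hom := by
  rw [map_mul]; rfl

lemma rho_one_hom : (ρ 1).hom = 𝟙 U := by
  rw [map_one]; rfl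

lemma rho_inv_hom (g : G) : (ρ g⁻¹).hom = (ρ g).inv := by
  rw [map_inv]; rfl

include ρ in
lemma eq_of_comp_eq
    (hfree : ∀ (g : G) (x : U.left), g ≠ 1 →
      U.left.fromSpecResidueField x ≫ (ρ g).hom.left ≠ U.left.fromSpecResidueField x)
    {W : Scheme.{u}} (a : W ⟶ U.left) (w : W) (g h : G)
    (e : a ≫ (ρ g).hom.left = a ≫ (ρ h).hom.left) : g = h := by
  by_contra hne
  have hne' : h⁻¹ * g ≠ 1 := by
    intro h1
    apply hne
    have := congrArg (fun z => h * z) h1
    simpa using this
  apply hfree (h⁻¹ * g) (a w) hne'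
  haveI : Epi (Spec.map (a.residueFieldMap w)) := epi_SpecMap_field (a.residueFieldMap w).hom
  have e1 : Spec.map (a.residueFieldMap w) ≫ U.left.fromSpecResidueField (a w) ≫ (ρ g).hom.left
      = Spec.map (a.residueFieldMap w) ≫ U.left.fromSpecResidueField (a w) ≫ (ρ h).hom.left := by
    rw [Scheme.Hom.SpecMap_residueFieldMap_fromSpecResidueField_assoc,
      Scheme.Hom.SpecMap_residueFieldMap_fromSpecResidueField_assoc, e]
  have e2 := (cancel_epi _).mp e1
  rw [rho_mul_hom, rho_inv_hom, Over.comp_left, ← Category.assoc, e2, Category.assoc,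
    ← Over.comp_left, Iso.hom_inv_id, Over.id_left, Category.comp_id]

end Free

end Groth.Agent.H5.GrpAct
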