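import Mathlib
import Groth.Agent.Lib.Helper5.GrpAct.B

open CategoryTheory Limits AlgebraicGeometry

namespace Groth.Agent.H5.GrpAct

universe u

section

variable {S : Scheme.{u}} {U : Over S} {G : Type u} (c : Cofan (fun _ : G => U))
  (hc : IsColimit c)

/-- The underlying cofan of schemes is a colimit. -/
noncomputable def isColimitLeft :
    IsColimit (Cofan.mk c.pt.left (fun g => (c.inj g).left)) :=
  isColimitCofanMkObjOfIsColimit (Over.forget S) _ c.inj
    (hc.ofIsoColimit (Cofan.ext (Iso.refl _) (by simp)))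

include hc in
lemma isOpenImmersion_inj_left (g : G) : IsOpenImmersion (c.inj g).left :=
  isOpenImmersion_inj _ (isColimitLeft c hc) g

include hc in
lemma exists_inj_left_eq (x : c.pt.left) : ∃ g y, (c.inj g).left y = x :=
  exists_inj_eq _ (isColimitLeft c hc) x

include hc in
lemma inj_left_eq (g h : G) (x y : U.left) (e : (c.inj g).left x = (c.inj h).left y) : g = h :=
  inj_eq_inj_iff _ (isColimitLeft c hc) g h x y e

variable (s : c.pt ⟶ U) (hs : ∀ g, c.inj g ≫ s = 𝟙 U)

include hs in
lemma inj_left_s (g : G) : (c.inj g).left ≫ s.left = 𝟙 U.left := by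
  have := congrArg CommaMorphism.left (hs g)
  simpa using this

include hc hs in
/-- A morphism landing in the `g`-th component factors through it via `s`. -/
lemma factor {W : Scheme.{u}} (f : W ⟶ c.pt.left) (g : G)
    (hf : Set.range f ⊆ Set.range (c.inj g).left) :
    f = (f ≫ s.left) ≫ (c.inj g).left := by
  haveI := isOpenImmersion_inj_left c hc g
  have h1 := IsOpenImmersion.lift_fac (c.inj g).left f hf
  have h2 : f ≫ s.left = IsOpenImmersion.lift (c.inj g).left f hf := by
    conv_lhs => rw [← h1]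
    rw [Category.assoc, inj_left_s c s hs, Category.comp_id]
  rw [h2, h1]

variable [Group G] (ρ : G →* Aut U) (t : c.pt ⟶ U) (ht : ∀ g, c.inj g ≫ t = (ρ g).hom)

include ht in
lemma inj_left_t (g : G) : (c.inj g).left ≫ t.left = (ρ g).hom.left := by
  have := congrArg CommaMorphism.left (ht g)
  simpa using this

include hc hs ht in
theorem injective
    (hfree : ∀ (g : G) (x : U.left), g ≠ 1 →
      U.left.fromSpecResidueField x ≫ (ρ g).hom.left ≠ U.left.fromSpecResidueField x)
    (T : Over S) (r r' : T ⟶ c.pt) (h1 : r ≫ t = r' ≫ t) (h2 : r ≫ s = r' ≫ s) : r = r' := by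
  apply Over.OverMorphism.ext
  apply hom_ext_of_locally
  intro w
  obtain ⟨g, y, hy⟩ := exists_inj_left_eq c hc (r.left w)
  obtain ⟨h, y', hy'⟩ := exists_inj_left_eq c hc (r'.left w)
  haveI := isOpenImmersion_inj_left c hc
  let W : T.left.Opens :=
    r.left ⁻¹ᵁ (c.inj g).left.opensRange ⊓ r'.left ⁻¹ᵁ (c.inj h).left.opensRange
  have hwW : w ∈ W := ⟨⟨y, hy⟩, ⟨y', hy'⟩⟩
  refine ⟨W, hwW, ?_⟩
  have hf : Set.range (W.ι ≫ r.left) ⊆ Set.range (c.inj g).left := by
    rintro _ ⟨z, rfl⟩
    exact z.2.1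
  have hf' : Set.range (W.ι ≫ r'.left) ⊆ Set.range (c.inj h).left := by
    rintro _ ⟨z, rfl⟩
    exact z.2.2
  have e1 := factor c hc s hs _ g hf
  have e2 := factor c hc s hs _ h hf'
  have h2l : r.left ≫ s.left = r'.left ≫ s.left := by
    have := congrArg CommaMorphism.left h2
    simpa using this
  have h1l : r.left ≫ t.left = r'.left ≫ t.left := by
    have := congrArg CommaMorphism.left h1
    simpa using this
  set a := (W.ι ≫ r.left) ≫ s.left with ha
  have ha' : (W.ι ≫ r'.left) ≫ s.left = a := by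
    rw [ha, Category.assoc, Category.assoc, h2l]
  rw [ha'] at e2
  have key : a ≫ (ρ g).hom.left = a ≫ (ρ h).hom.left := by
    rw [← inj_left_t c ρ t ht g, ← inj_left_t c ρ t ht h, ← Category.assoc, ← e1,
      ← Category.assoc, ← e2, Category.assoc, Category.assoc, h1l]
  have hgh : g = h := eq_of_comp_eq ρ hfree a ⟨w, hwW⟩ g h key
  subst hgh
  rw [e1, e2]

/-- the inversion on `R`. -/
noncomputable def flip : c.pt ⟶ c.pt :=
  Cofan.IsColimit.desc hc (fun g => (ρ g).hom ≫ c.inj g⁻¹)

include hs ht in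
lemma flip_s : flip c hc ρ ≫ s = t := by
  refine Cofan.IsColimit.hom_ext hc _ _ fun g => ?_
  rw [flip, Cofan.IsColimit.fac_assoc, Category.assoc, hs, Category.comp_id, ht]

include hs ht in
lemma flip_t : flip c hc ρ ≫ t = s := by
  refine Cofan.IsColimit.hom_ext hc _ _ fun g => ?_
  rw [flip, Cofan.IsColimit.fac_assoc, Category.assoc, ht, hs, ← rho_mul_hom, inv_mul_cancel,
    rho_one_hom]

/-- left translation on `R`. -/
noncomputable def transl (g : G) : c.pt ⟶ c.pt :=
  Cofan.IsColimit.desc hc (fun h => c.inj (g * h))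

include hs in
lemma transl_s (g : G) : transl c hc g ≫ s = s := by
  refine Cofan.IsColimit.hom_ext hc _ _ fun h => ?_
  rw [transl, Cofan.IsColimit.fac_assoc, hs, hs]

include ht in
lemma transl_t (g : G) : transl c hc g ≫ t = t ≫ (ρ g).hom := by
  refine Cofan.IsColimit.hom_ext hc _ _ fun h => ?_
  rw [transl, Cofan.IsColimit.fac_assoc, ht, reassoc_of% (ht h), rho_mul_hom]

end

end Groth.Agent.H5.GrpAct
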