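import Mathlib
import Groth.Agent.Lib.Helper5.GrpAct.C

open CategoryTheory Limits AlgebraicGeometry

namespace Groth.Agent.H5.GrpAct

universe u

section

variable {S : Scheme.{u}} {U : Over S} {G : Type u} (c : Cofan (fun _ : G => U))
  (hc : IsColimit c) (s : c.pt ⟶ U) (hs : ∀ g, c.inj g ≫ s = 𝟙 U)
  [Group G] (ρ : G →* Aut U) (t : c.pt ⟶ U) (ht : ∀ g, c.inj g ≫ t = (ρ g).hom)

include hc hs ht in
theorem trans_rel (T : Over S) (r₁ r₂ : T ⟶ c.pt) (h12 : r₁ ≫ s = r₂ ≫ t) :
    ∃ r₃ : T ⟶ c.pt, r₃ ≫ t = r₁ ≫ t ∧ r₃ ≫ s = r₂ ≫ s := by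
  haveI := isOpenImmersion_inj_left c hc
  let W : G → T.left.Opens := fun g => r₁.left ⁻¹ᵁ (c.inj g).left.opensRange
  have hcov : ⨆ g, (W g).ι.opensRange = ⊤ := by
    rw [eq_top_iff]
    intro x _
    obtain ⟨g, y, hy⟩ := exists_inj_left_eq c hc (r₁.left x)
    refine TopologicalSpace.Opens.mem_iSup.mpr ⟨g, ?_⟩
    rw [Scheme.Opens.opensRange_ι]
    exact ⟨y, hy⟩
  have hdisj : Pairwise (Function.onFun Disjoint (fun g => (W g).ι.opensRange)) := by
    intro g h hgh
    simp only [Function.onFun, Scheme.Opens.opensRange_ι]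
    rw [disjoint_iff, eq_bot_iff]
    rintro x ⟨⟨y, hy⟩, ⟨y', hy'⟩⟩
    exact (hgh (inj_left_eq c hc g h y y' (hy.trans hy'.symm))).elim
  obtain ⟨hW⟩ := nonempty_isColimit_cofanMk_of (fun g => (W g).ι) hcov hdisj
  let r₃l : T.left ⟶ c.pt.left :=
    Cofan.IsColimit.desc hW (fun g => (W g).ι ≫ r₂.left ≫ (transl c hc g).left)
  have hfac : ∀ g, (W g).ι ≫ r₃l = (W g).ι ≫ r₂.left ≫ (transl c hc g).left :=
    fun g => Cofan.IsColimit.fac hW _ g
  have hw : r₃l ≫ c.pt.hom = T.hom := by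
    refine Cofan.IsColimit.hom_ext hW _ _ fun g => ?_
    change (W g).ι ≫ r₃l ≫ c.pt.hom = (W g).ι ≫ T.hom
    rw [reassoc_of% (hfac g), Over.w, Over.w]
  refine ⟨Over.homMk r₃l hw, ?_, ?_⟩
  · apply Over.OverMorphism.ext
    refine Cofan.IsColimit.hom_ext hW _ _ fun g => ?_
    change (W g).ι ≫ r₃l ≫ t.left = (W g).ι ≫ r₁.left ≫ t.left
    have hf : Set.range ((W g).ι ≫ r₁.left) ⊆ Set.range (c.inj g).left := by
      rintro _ ⟨z, rfl⟩
      exact z.2
    have e1 := factor c hc s hs _ g hf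
    have h12l : r₁.left ≫ s.left = r₂.left ≫ t.left := by
      have := congrArg CommaMorphism.left h12
      simpa using this
    have htl : (transl c hc g).left ≫ t.left = t.left ≫ (ρ g).hom.left := by
      have := congrArg CommaMorphism.left (transl_t c hc ρ t ht g)
      simpa using this
    rw [reassoc_of% (hfac g), htl, ← Category.assoc (W g).ι r₁.left, e1]
    simp only [Category.assoc]
    rw [inj_left_t c ρ t ht g, reassoc_of% h12l]
  · apply Over.OverMorphism.ext
    refine Cofan.IsColimit.hom_ext hW _ _ fun g => ?_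
    change (W g).ι ≫ r₃l ≫ s.left = (W g).ι ≫ r₂.left ≫ s.left
    have hsl : (transl c hc g).left ≫ s.left = s.left := by
      have := congrArg CommaMorphism.left (transl_s c hc s hs g)
      simpa using this
    rw [reassoc_of% (hfac g), hsl]

include hc hs ht in
theorem equivalence (T : Over S) :
    Equivalence (fun a b : T ⟶ U => ∃ r : T ⟶ c.pt, r ≫ t = a ∧ r ≫ s = b) := by
  refine ⟨fun a => ?_, ?_, ?_⟩
  · exact ⟨a ≫ c.inj 1, by rw [Category.assoc, ht, rho_one_hom, Category.comp_id],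
      by rw [Category.assoc, hs, Category.comp_id]⟩
  · rintro a b ⟨r, rfl, rfl⟩
    exact ⟨r ≫ flip c hc ρ, by rw [Category.assoc, flip_t c hc s hs ρ t ht],
      by rw [Category.assoc, flip_s c hc s hs ρ t ht]⟩
  · rintro a b d ⟨r₁, rfl, rfl⟩ ⟨r₂, h, rfl⟩
    exact trans_rel c hc s hs ρ t ht T r₁ r₂ h.symm

include hc hs in
theorem etale_s : Etale s.left := by
  haveI := isOpenImmersion_inj_left c hc
  have hcov : ∀ x : c.pt.left, ∃ g y, (c.inj g).left y = x := exists_inj_left_eq c hc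
  let 𝒰 : c.pt.left.OpenCover :=
    Scheme.Cover.mkOfCovers G (fun _ => U.left) (fun g => (c.inj g).left) hcov
  refine IsZariskiLocalAtSource.of_openCover (P := @Etale) 𝒰 fun g => ?_
  change Etale ((c.inj g).left ≫ s.left)
  rw [inj_left_s c s hs g]
  infer_instance

include hc ht in
theorem etale_t : Etale t.left := by
  haveI := isOpenImmersion_inj_left c hc
  have hcov : ∀ x : c.pt.left, ∃ g y, (c.inj g).left y = x := exists_inj_left_eq c hc
  let 𝒰 : c.pt.left.OpenCover :=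
    Scheme.Cover.mkOfCovers G (fun _ => U.left) (fun g => (c.inj g).left) hcov
  refine IsZariskiLocalAtSource.of_openCover (P := @Etale) 𝒰 fun g => ?_
  change Etale ((c.inj g).left ≫ t.left)
  rw [inj_left_t c ρ t ht g]
  haveI : IsIso (ρ g).hom.left := inferInstanceAs (IsIso ((Over.forget S).map (ρ g).hom))
  infer_instance

end

end Groth.Agent.H5.GrpAct
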