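import Mathlib
import Groth.Agent.Lib.Helper5.GrpAct.A

open CategoryTheory Limits AlgebraicGeometry

namespace Groth.Agent.H5.GrpAct

universe u

section Cofan

variable {σ : Type u} [Finite σ] {X : σ → Scheme.{u}} (c : Cofan X) (hc : IsColimit c)
  {Y : Scheme.{u}} (j : c.pt ⟶ Y)

include hc in
lemma quasiCompact_of_inj (h : ∀ i, QuasiCompact (c.inj i ≫ j)) : QuasiCompact j := by
  constructor
  intro V hV hVc
  have e : j ⁻¹' V = ⋃ i, c.inj i '' ((c.inj i ≫ j) ⁻¹' V) := by
    ext x
    simp only [Set.mem_preimage, Set.mem_iUnion, Set.mem_image]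
    constructor
    · intro hx
      obtain ⟨i, y, rfl⟩ := exists_inj_eq c hc x
      exact ⟨i, y, by rw [Scheme.Hom.comp_apply]; exact hx, rfl⟩
    · rintro ⟨i, y, hy, rfl⟩
      rw [Scheme.Hom.comp_apply] at hy
      exact hy
  rw [e]
  exact isCompact_iUnion fun i =>
    ((h i).isCompact_preimage V hV hVc).image (c.inj i).continuous

include hc in
lemma isClosedImmersion_of_inj (hj : Function.Injective j)
    (h : ∀ i, IsClosedImmersion (c.inj i ≫ j)) : IsClosedImmersion j := by
  haveI := isOpenImmersion_inj c hc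
  have hcov : ∀ x : c.pt, ∃ i y, c.inj i y = x := exists_inj_eq c hc
  let 𝒰 : c.pt.OpenCover := Scheme.Cover.mkOfCovers σ X (fun i => c.inj i) hcov
  haveI : SurjectiveOnStalks j := by
    refine IsZariskiLocalAtSource.of_openCover (P := @SurjectiveOnStalks) 𝒰 fun i => ?_
    change SurjectiveOnStalks (c.inj i ≫ j)
    infer_instance
  refine ⟨?_⟩
  refine Topology.IsClosedEmbedding.of_continuous_injective_isClosedMap j.continuous hj ?_
  intro Z hZ
  have e : j '' Z = ⋃ i, (c.inj i ≫ j) '' ((c.inj i) ⁻¹' Z) := by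
    ext y
    simp only [Set.mem_preimage, Set.mem_iUnion, Set.mem_image]
    constructor
    · rintro ⟨x, hx, rfl⟩
      obtain ⟨i, z, rfl⟩ := exists_inj_eq c hc x
      exact ⟨i, z, hx, by rw [Scheme.Hom.comp_apply]⟩
    · rintro ⟨i, z, hz, rfl⟩
      exact ⟨c.inj i z, hz, by rw [Scheme.Hom.comp_apply]⟩
  rw [e]
  exact isClosed_iUnion_of_finite fun i =>
    (h i).isClosedEmbedding.isClosedMap _ (hZ.preimage (c.inj i).continuous)

end Cofan

end Groth.Agent.H5.GrpAct
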