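import Mathlib
import Groth.Agent.Lib.Helper5.GrpAct.D
import Groth.Agent.Lib.Helper5.GrpAct.E
import Groth.Agent.Lib.Helper5.AlgSp.QuotCmp
import Groth.Agent.Lib.Helper5.AlgSp.DiagPres
import Groth.Agent.Lib.Helper5.AlgSp.FppfLocal
import Groth.Agent.Lib.Helper5.AlgSp.EtaleQuot
import Groth.Agent.Lib.Helper5.AlgSp.Cover

open CategoryTheory Limits AlgebraicGeometry

namespace Groth.Agent.H5.GrpAct

universe u

section

variable {S : Scheme.{u}} {U : Over S}

lemma diag_left_comp : (Limits.diag U).left ≫ (Over.prodLeftIsoPullback U U).hom =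
    pullback.diagonal U.hom := by
  apply pullback.hom_ext
  · rw [Category.assoc, Over.prodLeftIsoPullback_hom_fst, ← Over.comp_left, Limits.diag,
      prod.lift_fst, pullback.diagonal_fst]
    rfl
  · rw [Category.assoc, Over.prodLeftIsoPullback_hom_snd, ← Over.comp_left, Limits.diag,
      prod.lift_snd, pullback.diagonal_snd]
    rfl

lemma prop_diag_left (P : MorphismProperty Scheme.{u}) [P.RespectsIso]
    (h : P (pullback.diagonal U.hom)) : P (Limits.diag U).left := by
  rw [← diag_left_comp] at h
  exact (P.cancel_right_of_respectsIso _ _).mp h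

lemma prop_graph (P : MorphismProperty Scheme.{u}) [P.RespectsIso]
    (h : P (pullback.diagonal U.hom)) (φ : U ≅ U) : P (prod.lift φ.hom (𝟙 U)).left := by
  have e : prod.lift φ.hom (𝟙 U) = Limits.diag U ≫ (prod.mapIso φ (Iso.refl U)).hom := by
    apply Limits.prod.hom_ext <;> simp
  rw [e, Over.comp_left]
  have : IsIso (prod.mapIso φ (Iso.refl U)).hom.left :=
    inferInstanceAs (IsIso ((Over.forget S).map (prod.mapIso φ (Iso.refl U)).hom))
  exact (P.cancel_right_of_respectsIso _ _).mpr (prop_diag_left P h)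

variable {G : Type u} (c : Cofan (fun _ : G => U))
  (hc : IsColimit c) (s : c.pt ⟶ U) (hs : ∀ g, c.inj g ≫ s = 𝟙 U)
  [Group G] (ρ : G →* Aut U) (t : c.pt ⟶ U) (ht : ∀ g, c.inj g ≫ t = (ρ g).hom)

include hs ht in
lemma inj_prodLift (g : G) : c.inj g ≫ prod.lift t s = prod.lift (ρ g).hom (𝟙 U) := by
  apply Limits.prod.hom_ext
  · rw [Category.assoc, prod.lift_fst, prod.lift_fst, ht]
  · rw [Category.assoc, prod.lift_snd, prod.lift_snd, hs]

include hs ht in
lemma inj_left_prodLift (g : G) :
    (c.inj g).left ≫ (prod.lift t s).left = (prod.lift (ρ g).hom (𝟙 U)).left := by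
  rw [← Over.comp_left, inj_prodLift c s hs ρ t ht g]

include hc hs ht in
theorem isEtaleEqvRel
    (hfree : ∀ (g : G) (x : U.left), g ≠ 1 →
      U.left.fromSpecResidueField x ≫ (ρ g).hom.left ≠ U.left.fromSpecResidueField x) :
    AlgSp.IsEtaleEqvRel s t :=
  { injective := fun T r r' h1 h2 => injective c hc s hs ρ t ht hfree T r r' h1 h2
    equivalence := fun T => equivalence c hc s hs ρ t ht T
    etale_left := etale_s c hc s hs
    etale_right := etale_t c hc ρ t ht }

open Groth.Agent.H5.AlgSp in
include hc hs ht in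
theorem quot_sep [Finite G]
    (hfree : ∀ (g : G) (x : U.left), g ≠ 1 →
      U.left.fromSpecResidueField x ≫ (ρ g).hom.left ≠ U.left.fromSpecResidueField x) :
    (QuasiSeparated U.hom →
        AlgSp.IsQuasiSeparatedSp (QuotSh.quot Scheme.fppfPrecoverage s t)) ∧
      (IsSeparated U.hom → AlgSp.IsSeparatedSp (QuotSh.quot Scheme.fppfPrecoverage s t)) := by
  have E : AlgSp.IsEtaleEqvRel s t := isEtaleEqvRel c hc s hs ρ t ht hfree
  have hP := isPresentation_quotChart s t E
  have : Sheaf.IsLocallySurjective (quotChart s t) :=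
    isLocallySurjective_of_etale_surjective _ hP.etale hP.surjective
  have hF := (isAlgSpace_quot s t E).diag
  constructor
  · intro hU
    refine (repWith_diag_iff_of_chart hF hP.isPullback @QuasiCompact).2 ?_
    refine quasiCompact_of_inj (Cofan.mk c.pt.left fun g => (c.inj g).left)
      (isColimitLeft c hc) _ fun g => ?_
    change QuasiCompact ((c.inj g).left ≫ _)
    rw [inj_left_prodLift c s hs ρ t ht g]
    exact prop_graph @QuasiCompact hU.1 (ρ g)
  · intro hU
    refine (repWith_diag_iff_of_chart hF hP.isPullback @IsClosedImmersion).2 ?_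
    have hmono : Mono (prod.lift t s) := mono_prodLift_of_isEqvRel s t E.toIsEqvRel
    have hmonoL : Mono (prod.lift t s).left := inferInstance
    refine isClosedImmersion_of_inj (Cofan.mk c.pt.left fun g => (c.inj g).left)
      (isColimitLeft c hc) _ (Scheme.Hom.injective _) fun g => ?_
    change IsClosedImmersion ((c.inj g).left ≫ _)
    rw [inj_left_prodLift c s hs ρ t ht g]
    exact prop_graph @IsClosedImmersion hU.1 (ρ g)

end

end Groth.Agent.H5.GrpAct
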